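import Cfsg.Agent.Lib.Fi22U62.Cover

/-!
The 3510 transpositions of Fi22 (helper71).

* `z0`, `mem_Hs_iff`, `conj_eq_iff`
* `isThreeTranspositionClass`, `card_D`, `cover_centralizer`
-/

set_option autoImplicit false
set_option maxRecDepth 10000

namespace Cfsg.Agent.Fi22U62

open Cfsg.Agent.CosetEnum Cfsg.Agent.CosetEnum.Data
open Cfsg.Agent.Unitary (GF4)

/-- being a non-split double cover only depends on the isomorphism type -/
theorem nonsplit_congr {A B K : Type*} [Group A] [Group B] [Group K] (e : A ≃* B)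
    (h : Cfsg.IsNonsplitDoubleCover A K) : Cfsg.IsNonsplitDoubleCover B K := by
  obtain ⟨h1, ⟨h2⟩, h3⟩ := h
  have hmap : (Subgroup.center A).map e.toMonoidHom = Subgroup.center B := by
    ext x
    rw [Subgroup.mem_map, Subgroup.mem_center_iff]
    constructor
    · rintro ⟨a, ha, rfl⟩ g
      obtain ⟨g, rfl⟩ := e.surjective g
      show e g * e a = e a * e g
      rw [← map_mul, ← map_mul, Subgroup.mem_center_iff.mp ha g]
    · intro hx
      obtain ⟨a, rfl⟩ := e.surjective x
      exact ⟨a, Subgroup.mem_center_iff.mpr fun g => e.injective (by rw [map_mul, map_mul, hx]), rfl⟩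
  refine ⟨by rw [← h1, ← Nat.card_congr (Subgroup.centerCongr e).toEquiv],
    ⟨(QuotientGroup.congr _ _ e hmap).symm.trans h2⟩, fun L hL => h3 (L.comap e.toMonoidHom) ?_⟩
  rw [Subgroup.isComplement'_def]
  refine ⟨fun p q hpq => ?_, fun a => ?_⟩
  · have m1 : ∀ c : Subgroup.center A, e c.1 ∈ Subgroup.center B := fun c => hmap ▸ ⟨c.1, c.2, rfl⟩
    have key := hL.1 (a₁ := (⟨e p.1.1, m1 p.1⟩, ⟨e p.2.1, p.2.2⟩)) (a₂ := (⟨e q.1.1, m1 q.1⟩, ⟨e q.2.1, q.2.2⟩))
      (by
        show e p.1.1 * e p.2.1 = e q.1.1 * e q.2.1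
        rw [← map_mul, ← map_mul]
        exact congrArg e hpq)
    exact Prod.ext (Subtype.ext (e.injective (congrArg (fun r => r.1.1) key)))
      (Subtype.ext (e.injective (congrArg (fun r => r.2.1) key)))
  · obtain ⟨⟨⟨c, hc⟩, ⟨l, hl⟩⟩, hcl⟩ := hL.2 (e a)
    have hc' := hmap.symm ▸ hc
    obtain ⟨c, hc'', rfl⟩ := hc'
    refine ⟨⟨⟨c, hc''⟩, ⟨e.symm l, by show e (e.symm l) ∈ L; rw [e.apply_symm_apply]; exact hl⟩⟩, ?_⟩
    apply e.injective
    show e (c * e.symm l) = e a
    rw [map_mul, e.apply_symm_apply]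
    exact hcl

/-- the base coset -/
noncomputable def pt0 : Fin fi22h.n := ⟨0, S1687.table.perm.hn⟩

theorem exists_coset_equiv : ∃ e : Fin fi22h.n ≃ fi22Setup.G ⧸ Hs, e pt0 = ((1 : fi22Setup.G) : fi22Setup.G ⧸ Hs) ∧
    ∀ g i, g • e i = e (rho g i) := by
  have T := S1687.table
  obtain ⟨ext, hsrc, hext⟩ := T.src
  exact Setup.exists_equiv T.gens T.letters T.check T.rels T.perm T.subs hsrc Hs rfl hext

theorem mem_Hs_iff (g : fi22Setup.G) : g ∈ Hs ↔ rho g pt0 = pt0 := by
  obtain ⟨e, he0, he⟩ := exists_coset_equiv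
  rw [← e.injective.eq_iff, ← he g pt0, he0]
  show _ ↔ ((g * 1 : fi22Setup.G) : fi22Setup.G ⧸ Hs) = ((1 : fi22Setup.G) : fi22Setup.G ⧸ Hs)
  rw [mul_one, QuotientGroup.eq]
  simp

/-- the transposition of the base coset -/
noncomputable def z0 : fi22Setup.G := fi22Setup.el 0

/-- the permutation of a word -/
theorem rho_ev : ∀ w : List ℕ, (∀ a ∈ w, a < fi22h.k) →
    rho (ev fi22Setup.el w) = ev (Setup.perm fi22h S1687.table.perm) w
  | [], _ => map_one rho
  | a :: v, h => by
    show rho (ev fi22Setup.el v * fi22Setup.el a) = ev _ v * Setup.perm fi22h S1687.table.perm a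
    rw [map_mul, rho_ev v (fun b hb => h b (List.mem_cons_of_mem a hb)),
      Setup.hom_el _ _ _ _ (h a List.mem_cons_self)]

theorem z0_eq : z0 = hgen 0 := by
  apply rho_injective
  rw [rho_hgen (by norm_num), z0, Setup.hom_el _ _ _ _ (by decide +kernel)]
  rw [show gw 0 = [0] by decide +kernel]
  simp [ev]

theorem z0_mem : z0 ∈ Hs := z0_eq ▸ hgen_mem (by norm_num)

theorem z0_comm {g : fi22Setup.G} (hg : g ∈ Hs) : g * z0 = z0 * g := by
  have hc : (⟨z0, z0_mem⟩ : Hs) ∈ Subgroup.center Hs := by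
    rw [center_eq_ker, MonoidHom.mem_ker]
    have e : (⟨z0, z0_mem⟩ : Hs) = ⟨hgen 0, hgen_mem (by norm_num)⟩ := Subtype.ext z0_eq
    rw [e, phi_gen (by norm_num)]
    rfl
  exact congrArg Subtype.val (Subgroup.mem_center_iff.mp hc ⟨g, hg⟩)

theorem ev_inv (w : List ℕ) (hw : ∀ a ∈ w, a < fi22h.k) :
    ev fi22Setup.el w.reverse = (ev fi22Setup.el w)⁻¹ := by
  induction w with
  | nil => simp [ev]
  | cons a v ih =>
    rw [List.reverse_cons, ev_append, ih (fun b hb => hw b (List.mem_cons_of_mem a hb))]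
    show (1 * fi22Setup.el a) * (ev fi22Setup.el v)⁻¹ = (ev fi22Setup.el v * fi22Setup.el a)⁻¹
    rw [mul_inv_rev, one_mul]
    congr 1
    refine eq_inv_of_mul_eq_one_left ?_
    have h9 : a < 9 := hw a List.mem_cons_self
    apply rho_injective
    rw [map_mul, map_one, Setup.hom_el _ _ _ _ h9, ← Setup.closed_ev S1687.table.perm (w := [a, a])
      (by interval_cases a <;> decide +kernel)]
    simp [ev]

/-- transposition of a word's coset, as a word -/
def dword (u : List ℕ) : List ℕ := u.reverse ++ [0] ++ u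

/-- check for a representative -/
noncomputable def repOK (u : List ℕ) (O : OrbitData) (m : ℕ) : Bool :=
  (u.all fun a => Nat.blt a fi22h.k) && (Nat.beq (fi22h.tw u 0) O.root &&
    (Nat.beq (fi22h.trace (Setup.wpow ([0] ++ dword u) m)) (fi22h.trace []) &&
      force (fi22h.trace (dword u)) fun V => force (fi22h.trace [0]) fun W =>
        (List.range 3510).any fun i => !Nat.beq (lane 13 V i) (lane 13 W i)))

theorem rep_check0 : repOK [1] fi22h_orb0 3 = true := by decide +kernel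

theorem rep_check1 : repOK [1, 0, 2, 1] fi22h_orb1 2 = true := by decide +kernel

theorem cover_points : ((List.range 3510).all fun i => Nat.beq i 0 ||
    (Nat.beq (lane 13 fi22h_orb0.mask i) 1 || Nat.beq (lane 13 fi22h_orb1.mask i) 1)) = true := by
  decide +kernel

theorem orbit_rep {O : OrbitData} (hO : fi22h.reachOK O = true)
    (hw : O.words = S1687.hgens.map (fi22Setup.wl fi22h)) {i : ℕ} (hi : i ∈ Data.maskSet fi22h O) :
    ∃ h ∈ Hs, ∀ r : Fin fi22h.n, (r : ℕ) = O.root → (rho h r : ℕ) = i := by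
  obtain ⟨-, -, hind⟩ := Data.orbit_reach S1687.table.perm hO
  refine hind (P := fun j => ∃ h ∈ Hs, ∀ r : Fin fi22h.n, (r : ℕ) = O.root → (rho h r : ℕ) = j)
    ⟨1, one_mem _, fun r hr => by simpa using hr⟩ ?_ i hi
  rintro w hw' j hj ⟨h, hh, hr⟩
  rw [hw, List.mem_map] at hw'
  obtain ⟨x, hx, rfl⟩ := hw'
  obtain ⟨k, hk, rfl⟩ := List.mem_iff_getElem.mp hx
  obtain ⟨he, hlt, -⟩ := gw_spec (k := k) hk
  rw [List.getD_eq_getElem _ _ hk] at he
  rw [he] at hlt
  refine ⟨hgen k * h, mul_mem (hgen_mem hk) hh, fun r hr' => ?_⟩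
  rw [map_mul, Equiv.Perm.mul_apply, rho_hgen (show k < 9 from hk), he, Setup.ev_perm _ _ hlt, hr r hr']

theorem conj_cases {g : fi22Setup.G} (hg : g ∉ Hs) : g * z0 * g⁻¹ ≠ z0 ∧
    ((z0 * (g * z0 * g⁻¹)) ^ 2 = 1 ∨ (z0 * (g * z0 * g⁻¹)) ^ 3 = 1) := by
  have main : ∀ (u : List ℕ) (O : OrbitData) (m : ℕ), repOK u O m = true → fi22h.reachOK O = true →
      O.words = S1687.hgens.map (fi22Setup.wl fi22h) → (rho g pt0 : ℕ) ∈ Data.maskSet fi22h O →
      g * z0 * g⁻¹ ≠ z0 ∧ (z0 * (g * z0 * g⁻¹)) ^ m = 1 := by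
    intro u O m hu hO hw hi
    simp only [repOK, force_eq, Bool.and_eq_true, List.all_eq_true, List.any_eq_true, Nat.blt_eq, beq_iff, Bool.not_eq_true'] at hu
    obtain ⟨hlt, hroot, hpow, hne⟩ := hu
    obtain ⟨h, hh, hr⟩ := orbit_rep hO hw hi
    set k := ev fi22Setup.el u
    have hk0 : (rho k pt0 : ℕ) = O.root := by
      rw [rho_ev u hlt, Setup.ev_perm _ _ hlt]; exact hroot
    have hmem : (h * k)⁻¹ * g ∈ Hs := by
      rw [mem_Hs_iff, map_mul, map_inv, Equiv.Perm.mul_apply, Equiv.Perm.inv_eq_iff_eq, map_mul,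
        Equiv.Perm.mul_apply]
      exact Fin.ext (hr _ hk0).symm
    obtain ⟨y, hy, rfl⟩ : ∃ y ∈ Hs, g = h * k * y := ⟨(h * k)⁻¹ * g, hmem, by group⟩
    have hconj : h * k * y * z0 * (h * k * y)⁻¹ = h * (k * z0 * k⁻¹) * h⁻¹ := by
      calc _ = h * k * (y * z0) * (h * k * y)⁻¹ := by group
        _ = h * k * (z0 * y) * (h * k * y)⁻¹ := by rw [z0_comm hy]
        _ = _ := by group
    have hd : k * z0 * k⁻¹ = ev fi22Setup.el (dword u) := by
      rw [dword, ev_append, ev_append, ev_inv u hlt]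
      simp [ev, k, z0, mul_assoc]
    have hdlt : ∀ a ∈ dword u, a < fi22h.k := by
      simp only [dword, List.mem_append, List.mem_reverse, List.mem_singleton]
      rintro a ((ha | rfl) | ha)
      · exact hlt a ha
      · decide +kernel
      · exact hlt a ha
    have h0lt : ∀ a ∈ [0], a < fi22h.k := by simp; decide +kernel
    have hz : h * z0 * h⁻¹ = z0 := by rw [z0_comm hh]; group
    rw [hconj]
    constructor
    · intro heq
      have heq' : k * z0 * k⁻¹ = z0 := by
        have := congrArg (fun x => h⁻¹ * x * h) (heq.trans hz.symm)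
        simpa [mul_assoc] using this
      rw [hd] at heq'
      have h' := congrArg rho heq'
      rw [rho_ev _ hdlt, z0, Setup.hom_el _ _ _ _ (by decide +kernel)] at h'
      obtain ⟨i, hi, hne'⟩ := hne
      have hin : i < fi22h.n := List.mem_range.mp hi
      have h3 := congrArg (fun π : Equiv.Perm (Fin fi22h.n) => ((π ⟨i, hin⟩ : Fin fi22h.n) : ℕ)) h'
      simp only [Setup.ev_perm _ _ hdlt, Setup.perm_apply _ (show 0 < fi22h.k by decide +kernel)] at h3
      rw [lane_trace hdlt ⟨i, hin⟩, lane_trace h0lt ⟨i, hin⟩, h3, show fi22h.tw [0] i = fi22h.act 0 i from rfl] at hne'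
      exact Bool.false_ne_true (hne'.symm.trans (beq_iff.mpr rfl))
    · have hall : ∀ a ∈ Setup.wpow ([0] ++ dword u) m, a < fi22h.k := by
        have hone : ∀ a ∈ [0] ++ dword u, a < fi22h.k := fun a ha =>
          (List.mem_append.mp ha).elim (h0lt a) (hdlt a)
        clear hpow
        induction m with
        | zero => simp [Setup.wpow]
        | succ m ih => exact fun a ha => (List.mem_append.mp ha).elim (hone a) (ih a)
      have hp : (k * z0 * k⁻¹ * z0) ^ m = 1 := by
        apply rho_injective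
        rw [hd, map_one, show ev fi22Setup.el (dword u) * z0 = ev fi22Setup.el ([0] ++ dword u) by
          rw [ev_append]; simp [ev, z0]]
        rw [← Setup.ev_wpow, rho_ev _ hall, eq_of_trace hall (by simp) hpow]
        rfl
      calc (z0 * (h * (k * z0 * k⁻¹) * h⁻¹)) ^ m
          = (h * (z0 * (k * z0 * k⁻¹)) * h⁻¹) ^ m := by
            rw [show h * (z0 * (k * z0 * k⁻¹)) * h⁻¹ = (h * z0 * h⁻¹) * (h * (k * z0 * k⁻¹) * h⁻¹) by group, hz]
        _ = h * (z0 * (k * z0 * k⁻¹)) ^ m * h⁻¹ := conj_pow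
        _ = 1 := by
            rw [show z0 * (k * z0 * k⁻¹) = z0 * (k * z0 * k⁻¹ * z0) * z0⁻¹ by group, conj_pow, hp]
            group
  have hne : (rho g pt0 : ℕ) ≠ 0 := fun h0 => hg ((mem_Hs_iff g).mpr (Fin.ext h0))
  have hc := List.all_eq_true.mp cover_points _ (List.mem_range.mpr (rho g pt0).2)
  simp only [Bool.or_eq_true, beq_iff] at hc
  have h0 := fi22h_orb0_check
  have h1 := fi22h_orb1_check
  simp only [Bool.and_eq_true] at h0 h1
  rcases hc with hc | hc | hc
  · exact absurd hc hne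
  · obtain ⟨a, b⟩ := main [1] fi22h_orb0 3 rep_check0 h0.1 (by decide +kernel) ⟨(rho g pt0).2, hc⟩
    exact ⟨a, Or.inr b⟩
  · obtain ⟨a, b⟩ := main [1, 0, 2, 1] fi22h_orb1 2 rep_check1 h1.1 (by decide +kernel) ⟨(rho g pt0).2, hc⟩
    exact ⟨a, Or.inl b⟩

theorem centralizer_z0 : Subgroup.centralizer ({z0} : Set fi22Setup.G) = Hs := by
  ext g
  rw [Subgroup.mem_centralizer_singleton_iff]
  constructor
  · intro h
    by_contra hg
    exact (conj_cases hg).1 (by rw [h]; group)
  · exact fun h => z0_comm h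

theorem z0_sq : z0 * z0 = 1 := by
  have := ev_inv [0] (by simp; decide +kernel)
  simp [ev] at this
  exact mul_eq_one_iff_eq_inv.mpr this

theorem z0_ne : z0 ≠ 1 := by
  intro h
  have hn : fi22Setup.el 1 ∉ Hs := by
    intro h1
    have := congrArg Fin.val ((mem_Hs_iff _).mp h1)
    rw [Setup.hom_el _ _ _ _ (by decide +kernel), Setup.perm_apply _ (by decide +kernel)] at this
    revert this
    decide +kernel
  exact (conj_cases hn).1 (by rw [h]; group)

/-- the class -/
def classD : Set fi22Setup.G := conjugatesOf z0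

theorem isThreeTranspositionClass : Cfsg.IsThreeTranspositionClass classD := by
  have ho : orderOf z0 = 2 := orderOf_eq_prime (by rw [pow_two, z0_sq]) z0_ne
  have hform : ∀ d ∈ classD, ∃ g, d = g * z0 * g⁻¹ := by
    intro d hd
    obtain ⟨g, hg⟩ := isConj_iff.mp hd
    exact ⟨g, hg.symm⟩
  refine ⟨⟨fun d hd => ?_, fun d hd e he => ?_⟩, ⟨z0, mem_conjugatesOf_self, rfl⟩, ?_⟩
  · obtain ⟨g, rfl⟩ := hform d hd
    rw [← ho]
    exact (MulAut.conj g).orderOf_eq z0
  · obtain ⟨g, rfl⟩ := hform d hd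
    obtain ⟨f, rfl⟩ := hform e he
    have key : ∀ m : ℕ, (z0 * (g⁻¹ * f * z0 * (g⁻¹ * f)⁻¹)) ^ m = 1 →
        (g * z0 * g⁻¹ * (f * z0 * f⁻¹)) ^ m = 1 := fun m hm => by
      rw [show g * z0 * g⁻¹ * (f * z0 * f⁻¹) = g * (z0 * (g⁻¹ * f * z0 * (g⁻¹ * f)⁻¹)) * g⁻¹ by group, conj_pow, hm]
      group
    by_cases h : g⁻¹ * f ∈ Hs
    · left
      apply key
      rw [z0_comm h, mul_assoc z0, mul_inv_cancel, mul_one, z0_sq, one_pow]
    · exact (conj_cases h).2.imp (key 2) (key 3)
  · have := S1696.main.1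
    have hn : (Subgroup.closure classD).Normal := by
      have : classD = Group.conjugatesOfSet {z0} := by
        simp [classD, Group.conjugatesOfSet]
      rw [this]
      exact Subgroup.normalClosure_normal
    refine hn.eq_bot_or_eq_top.resolve_left fun hb => z0_ne ?_
    have : z0 ∈ Subgroup.closure classD := Subgroup.subset_closure mem_conjugatesOf_self
    rw [hb] at this
    exact this

theorem card_classD : Nat.card classD = 3510 := by
  let f : fi22Setup.G ⧸ Hs → classD := Quotient.lift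
    (fun g => (⟨g * z0 * g⁻¹, isConj_iff.mpr ⟨g, rfl⟩⟩ : classD)) (by
      intro g g' h
      have hm : g⁻¹ * g' ∈ Hs := QuotientGroup.leftRel_apply.mp h
      apply Subtype.ext
      show g * z0 * g⁻¹ = g' * z0 * g'⁻¹
      calc g * z0 * g⁻¹ = g * (g⁻¹ * g' * z0) * g'⁻¹ := by rw [z0_comm hm]; group
        _ = _ := by group)
  have hf : Function.Bijective f := by
    constructor
    · intro a b
      induction a using QuotientGroup.induction_on with | H g => ?_
      induction b using QuotientGroup.induction_on with | H g' => ?_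
      intro h
      have h' : g * z0 * g⁻¹ = g' * z0 * g'⁻¹ := congrArg Subtype.val h
      refine QuotientGroup.eq.mpr ?_
      rw [← centralizer_z0, Subgroup.mem_centralizer_singleton_iff]
      calc g⁻¹ * g' * z0 = g⁻¹ * (g' * z0 * g'⁻¹) * g' := by group
        _ = z0 * (g⁻¹ * g') := by rw [← h']; group
    · rintro ⟨d, hd⟩
      obtain ⟨g, hg⟩ := isConj_iff.mp hd
      exact ⟨(g : fi22Setup.G ⧸ Hs), Subtype.ext hg⟩
  rw [← Nat.card_congr (Equiv.ofBijective f hf)]
  exact Setup.Table.index S1687.table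

theorem cover_centralizer {d : fi22Setup.G} (hd : d ∈ classD) :
    Cfsg.IsNonsplitDoubleCover (Subgroup.centralizer ({d} : Set fi22Setup.G)) (Cfsg.PSU 6 GF4 2) := by
  obtain ⟨g, rfl⟩ := isConj_iff.mp hd
  have e : Hs.map (MulAut.conj g).toMonoidHom = Subgroup.centralizer {g * z0 * g⁻¹} := by
    ext x
    rw [Subgroup.mem_map_equiv, ← centralizer_z0, Subgroup.mem_centralizer_singleton_iff,
      Subgroup.mem_centralizer_singleton_iff, MulAut.conj_symm_apply]
    constructor <;> intro h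
    · calc x * (g * z0 * g⁻¹) = g * (g⁻¹ * x * g * z0) * g⁻¹ := by group
        _ = g * z0 * g⁻¹ * x := by rw [h]; group
    · calc g⁻¹ * x * g * z0 = g⁻¹ * (x * (g * z0 * g⁻¹)) * g := by group
        _ = z0 * (g⁻¹ * x * g) := by rw [h]; group
  exact nonsplit_congr (((MulAut.conj g).subgroupMap Hs).trans (MulEquiv.subgroupCongr e)) isNonsplitDoubleCover

end Cfsg.Agent.Fi22U62
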