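import Cfsg.Agent.Lib.Fi22U62.Data
import Cfsg.Agent.Lib.CosetEnum.Pack
import Cfsg.Agent.Lib.Unitary.Small32
import Cfsg.Agent.Lib.Unitary.Simple

/-!
The 693 isotropic points of the six-dimensional hermitian space over the field with four elements (helper71).

* `pperm`: the action of `SU₆(2)` on them, with kernel the centre
* `psuEquivRange`
* `range_le`: a permutation group containing all transvections contains the image
-/

set_option autoImplicit false
set_option maxRecDepth 10000

namespace Cfsg.Agent.Fi22U62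

open Cfsg.Agent.Unitary
open Cfsg.Agent.CosetEnum (lane)
open scoped Matrix

/-- the vector space -/
abbrev V6 : Type := Fin 6 → GF4

theorem hF : Fintype.card GF4 = 2 ^ 2 := GF4.card

/-- number of a field element -/
def code : GF4 → ℕ
  | .zr => 0
  | .un => 1
  | .om => 2
  | .om2 => 3

/-- field element of a number -/
def gf : ℕ → GF4
  | 0 => .zr
  | 1 => .un
  | 2 => .om
  | _ => .om2

/-- a vector from its coordinates -/
def mk6 (a b c d e f : GF4) : V6 := ![a, b, c, d, e, f]

/-- number of a vector -/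
def enc (v : V6) : ℕ :=
  code (v 0) + 4 * code (v 1) + 16 * code (v 2) + 64 * code (v 3) + 256 * code (v 4) + 1024 * code (v 5)

/-- vector of a number -/
def dec (n : ℕ) : V6 :=
  mk6 (gf (n % 4)) (gf (n / 4 % 4)) (gf (n / 16 % 4)) (gf (n / 64 % 4)) (gf (n / 256 % 4)) (gf (n / 1024 % 4))

/-- representing vector -/
noncomputable def pt (j : ℕ) : V6 := dec (lane 12 ptTab j)

/-- the point spanned by a vector -/
noncomputable def pid (v : V6) : ℕ := lane 12 pidTab (enc v)

/-- the first nonzero coordinate -/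
def lead (a b c d e f : GF4) : GF4 :=
  if a ≠ 0 then a else if b ≠ 0 then b else if c ≠ 0 then c else if d ≠ 0 then d else if e ≠ 0 then e else f

theorem pid_spec : ∀ a b c d e f : GF4,
    a * a * a + b * b * b + c * c * c + d * d * d + e * e * e + f * f * f = 0 →
    lead a b c d e f ≠ 0 →
    pid (mk6 a b c d e f) < 693 ∧
      enc (lead a b c d e f • pt (pid (mk6 a b c d e f))) = enc (mk6 a b c d e f) := by
  decide +kernel

theorem pt_spec : ∀ j : Fin 693, enc (pt j) ≠ 0 ∧
    (pt j 0 * pt j 0 * pt j 0 + pt j 1 * pt j 1 * pt j 1 + pt j 2 * pt j 2 * pt j 2 + pt j 3 * pt j 3 * pt j 3 +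
      pt j 4 * pt j 4 * pt j 4 + pt j 5 * pt j 5 * pt j 5 = 0) ∧
    ∀ s : GF4, s ≠ 0 → pid (s • pt j) = j := by
  decide +kernel

theorem code_injective : ∀ a b : GF4, code a = code b → a = b := by decide

theorem code_lt : ∀ a : GF4, code a < 4 := by decide

theorem enc_injective {u v : V6} (h : enc u = enc v) : u = v := by
  unfold enc at h
  have h0 := code_lt (u 0); have h0' := code_lt (v 0)
  have h1 := code_lt (u 1); have h1' := code_lt (v 1)
  have h2 := code_lt (u 2); have h2' := code_lt (v 2)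
  have h3 := code_lt (u 3); have h3' := code_lt (v 3)
  have h4 := code_lt (u 4); have h4' := code_lt (v 4)
  funext i
  apply code_injective
  fin_cases i <;> simp <;> omega

theorem herm_self (v : V6) : Cfsg.hermForm 6 GF4 2 v v =
    v 0 * v 0 * v 0 + v 1 * v 1 * v 1 + v 2 * v 2 * v 2 + v 3 * v 3 * v 3 + v 4 * v 4 * v 4 + v 5 * v 5 * v 5 := by
  simp [Cfsg.hermForm, Fin.sum_univ_six, pow_two, mul_assoc]

/-- a nonzero isotropic vector -/
def Iso (v : V6) : Prop := v ≠ 0 ∧ Cfsg.hermForm 6 GF4 2 v v = 0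

theorem eq_mk6 (v : V6) : v = mk6 (v 0) (v 1) (v 2) (v 3) (v 4) (v 5) := by
  funext i; fin_cases i <;> rfl

theorem Iso.exists_smul {v : V6} (hv : Iso v) : pid v < 693 ∧ ∃ s : GF4, s ≠ 0 ∧ v = s • pt (pid v) := by
  have hl : lead (v 0) (v 1) (v 2) (v 3) (v 4) (v 5) ≠ 0 := by
    intro h
    apply hv.1
    unfold lead at h
    split_ifs at h <;> first
      | contradiction
      | (funext i; fin_cases i <;> simp_all)
  have h := pid_spec _ _ _ _ _ _ (by rw [← herm_self]; exact hv.2) hl
  rw [← eq_mk6 v] at h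
  exact ⟨h.1, _, hl, (enc_injective h.2).symm⟩

theorem iso_pt (j : Fin 693) : Iso (pt j) := by
  refine ⟨fun h => (pt_spec j).1 (by rw [h]; rfl), ?_⟩
  rw [herm_self]
  exact (pt_spec j).2.1

theorem pid_smul_pt (j : Fin 693) {s : GF4} (hs : s ≠ 0) : pid (s • pt j) = j := (pt_spec j).2.2 s hs

theorem pid_pt (j : Fin 693) : pid (pt j) = j := by simpa using pid_smul_pt j (one_ne_zero)

theorem Iso.pid_smul {v : V6} (hv : Iso v) {s : GF4} (hs : s ≠ 0) : pid (s • v) = pid v := by
  obtain ⟨hlt, t, ht, e⟩ := hv.exists_smul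
  conv_lhs => rw [e, smul_smul]
  exact pid_smul_pt ⟨pid v, hlt⟩ (mul_ne_zero hs ht)

theorem Iso.suAct {v : V6} (hv : Iso v) (g : Cfsg.SU 6 GF4 2) : Iso (suAct g v) :=
  ⟨suAct_ne_zero g hv.1, by rw [suAct_herm]; exact hv.2⟩

/-- the point map -/
noncomputable def pmap (g : Cfsg.SU 6 GF4 2) (j : Fin 693) : Fin 693 :=
  ⟨pid (Unitary.suAct g (pt j)), ((iso_pt j).suAct g).exists_smul.1⟩

theorem pmap_mul (g h : Cfsg.SU 6 GF4 2) (j : Fin 693) : pmap (g * h) j = pmap g (pmap h j) := by
  apply Fin.ext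
  show pid (Unitary.suAct (g * h) (pt j)) = pid (Unitary.suAct g (pt (pid (Unitary.suAct h (pt j)))))
  obtain ⟨hlt, s, hs, e⟩ := ((iso_pt j).suAct h).exists_smul
  rw [suAct_mul]
  conv_lhs => rw [e, suAct_smul, ((iso_pt ⟨_, hlt⟩).suAct g).pid_smul hs]

theorem pmap_one (j : Fin 693) : pmap 1 j = j := Fin.ext (by
  show pid (Unitary.suAct 1 (pt j)) = _
  rw [show Unitary.suAct (1 : Cfsg.SU 6 GF4 2) (pt j) = pt j from Matrix.one_mulVec _]
  exact pid_pt j)

/-- the action of `SU₆(2)` on the points -/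
noncomputable def pperm : Cfsg.SU 6 GF4 2 →* Equiv.Perm (Fin 693) where
  toFun g :=
    { toFun := pmap g
      invFun := pmap g⁻¹
      left_inv := fun j => by rw [← pmap_mul, inv_mul_cancel, pmap_one]
      right_inv := fun j => by rw [← pmap_mul, mul_inv_cancel, pmap_one] }
  map_one' := Equiv.ext fun j => pmap_one j
  map_mul' g h := Equiv.ext fun j => pmap_mul g h j

theorem pperm_apply (g : Cfsg.SU 6 GF4 2) (j : Fin 693) :
    ((pperm g j : Fin 693) : ℕ) = pid (Unitary.suAct g (pt j)) := rfl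

theorem ker_pperm : pperm.ker = Subgroup.center (Cfsg.SU 6 GF4 2) := by
  ext g
  rw [MonoidHom.mem_ker, mem_center_SU_iff hF (by norm_num)]
  constructor
  · intro hg
    refine scalar_of_fixes_iso hF (by norm_num) _ fun v h0 h1 => ?_
    have hv : Iso v := ⟨h0, h1⟩
    obtain ⟨hlt, s, hs, e⟩ := hv.exists_smul
    obtain ⟨-, t, -, e'⟩ := (hv.suAct g).exists_smul
    have hfix : pid (Unitary.suAct g v) = pid v := by
      conv_lhs => rw [e, suAct_smul, ((iso_pt ⟨_, hlt⟩).suAct g).pid_smul hs]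
      exact congrArg (fun π : Equiv.Perm (Fin 693) => ((π ⟨pid v, hlt⟩ : Fin 693) : ℕ)) hg
    refine ⟨t * s⁻¹, ?_⟩
    show Unitary.suAct g v = _
    rw [e', hfix]
    conv_rhs => rw [e, smul_smul, mul_assoc, inv_mul_cancel₀ hs, mul_one]
  · rintro ⟨z, hz⟩
    refine Equiv.ext fun j => Fin.ext ?_
    rw [pperm_apply]
    have e : Unitary.suAct g (pt j) = z • pt j := by
      show _ *ᵥ _ = _
      rw [hz]
      funext i
      simp [Matrix.mulVec_diagonal]
    have hz0 : z ≠ 0 := fun h0 => ((iso_pt j).suAct g).1 (by rw [e, h0, zero_smul])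
    rw [e]
    exact pid_smul_pt j hz0

/-- `PSU₆(2)` as a permutation group on the points -/
noncomputable def psuEquivRange : Cfsg.PSU 6 GF4 2 ≃* pperm.range :=
  (QuotientGroup.quotientMulEquivOfEq ker_pperm.symm).trans (QuotientGroup.quotientKerEquivRange pperm)

theorem one_skew : (1 : GF4) + 1 ^ 2 = 0 := by decide

theorem skew_cases : ∀ c : GF4, c + c ^ 2 = 0 → c = 0 ∨ c = 1 := by decide +kernel

/-- the transvection with a given isotropic centre -/
noncomputable def tv (v : V6) (hv : Iso v) : Cfsg.SU 6 GF4 2 := suTransvection hF v hv.2 1 one_skew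

theorem tv_apply {v : V6} (hv : Iso v) (x : V6) :
    Unitary.suAct (tv v hv) x = x + Cfsg.hermForm 6 GF4 2 x v • v := by
  rw [tv, suAct_suTransvection, one_mul]

theorem val_tv {v : V6} (hv : Iso v) : ((tv v hv : Matrix.SpecialLinearGroup (Fin 6) GF4) :
    Matrix (Fin 6) (Fin 6) GF4) = Cfsg.unitaryTransvection 6 2 v 1 := rfl

theorem cube_one : ∀ a : GF4, a ≠ 0 → a ^ (2 + 1) = 1 := by decide +kernel

/-- transvections depend on the point only -/
theorem tv_pid {v : V6} (hv : Iso v) : tv v hv = tv _ (iso_pt ⟨pid v, hv.exists_smul.1⟩) := by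
  obtain ⟨hlt, s, hs, e⟩ := hv.exists_smul
  apply Subtype.ext
  apply Subtype.ext
  rw [val_tv, val_tv]
  show _ = Cfsg.unitaryTransvection 6 2 (pt (pid v)) 1
  conv_lhs => rw [e, transvection_smul, cube_one s hs, mul_one]

theorem tv_conj {u v : V6} (hu : Iso u) (hv : Iso v) :
    tv u hu * tv v hv = tv _ (hv.suAct (tv u hu)) * tv u hu := by
  refine suAct_ext fun x => ?_
  rw [suAct_mul, suAct_mul, tv_apply hv, tv_apply (hv.suAct _), suAct_add, suAct_smul, suAct_herm]

theorem pperm_tv_conj (g : Fin 693) (p : Fin 693) :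
    pperm (tv _ (iso_pt (pperm (tv _ (iso_pt g)) p))) =
      pperm (tv _ (iso_pt g)) * pperm (tv _ (iso_pt p)) * (pperm (tv _ (iso_pt g)))⁻¹ := by
  rw [← map_mul, ← map_inv, ← map_mul, tv_conj (iso_pt g) (iso_pt p), mul_inv_cancel_right,
    tv_pid ((iso_pt p).suAct _)]
  rfl

/-- a permutation group containing every transvection contains the image of `SU₆(2)` -/
theorem range_le (R : Subgroup (Equiv.Perm (Fin 693))) (h : ∀ j, pperm (tv _ (iso_pt j)) ∈ R) :
    pperm.range ≤ R := by
  rw [MonoidHom.range_eq_map, Subgroup.map_le_iff_le_comap, ← transvectionGroup_eq_top hF (Or.inl (by norm_num)),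
    transvectionGroup, Subgroup.closure_le]
  rintro A ⟨v, c, hv0, hA⟩
  have hone : v = 0 ∨ c = 0 → A = 1 := by
    intro h
    apply Subtype.ext
    apply Subtype.ext
    rw [hA]
    rcases h with rfl | rfl
    · simp [Cfsg.unitaryTransvection]
    · exact transvection_zero v
  by_cases hv : v = 0
  · rw [hone (Or.inl hv)]; exact one_mem _
  have hc : c + c ^ 2 = 0 := (transvection_isometry_iff hF v hv hv0 c).1 (hA ▸ A.2)
  rcases skew_cases c hc with rfl | rfl
  · rw [hone (Or.inr rfl)]; exact one_mem _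
  have hI : Iso v := ⟨hv, hv0⟩
  have hAv : A = tv v hI := Subtype.ext (Subtype.ext hA)
  show pperm A ∈ R
  rw [hAv, tv_pid hI]
  exact h _

end Cfsg.Agent.Fi22U62
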