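import Cfsg.Agent.S1687
import Cfsg.Agent.Lib.Fi22U62.Points

/-!
Certified facts about the orbit of length 693 of the transposition centraliser in Fi22 (helper71).

* `gen_check`, `gfun_tv`, `gfun_zero`, `steps_check`, `braid_check`, `odd_check`
-/

set_option autoImplicit false

namespace Cfsg.Agent.Fi22U62

open Cfsg.Agent.CosetEnum
open Cfsg.Agent.Unitary (GF4)

/-- point label plus one -/
noncomputable def lab (i : ℕ) : ℕ := lane 12 labTab i

/-- the coset of a point -/
noncomputable def sec (j : ℕ) : ℕ := lane 12 secTab j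

/-- a generator on the points -/
noncomputable def gfun (k j : ℕ) : ℕ := lane 12 (genTab.getD k 0) j

/-- the word of a generator -/
noncomputable def gw (k : ℕ) : List ℕ := (S1687.hgens.map (fi22Setup.wl fi22h)).getD k []

/-- one generator respects the points -/
noncomputable def genOK (k : ℕ) : Bool :=
  ((gw k).all fun a => Nat.blt a fi22h.k) &&
    force (fi22h.trace (gw k)) fun V => (List.range 3510).all fun i =>
      Nat.beq (lab i) 0 || Nat.beq (lab (lane 13 V i)) (gfun k (lab i - 1) + 1)

theorem gen_check : ((List.range 9).all genOK) = true := by decide +kernel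

theorem sec_spec : ∀ j : Fin 693, sec j < 3510 ∧ lab (sec j) = (j : ℕ) + 1 := by decide +kernel

/-- the centre of a generator -/
def gvec (k : ℕ) : V6 := dec (genVec.getD k 0)

theorem gvec_spec : ∀ k : Fin 8, gvec (k + 1) 0 * gvec (k + 1) 0 * gvec (k + 1) 0 +
    gvec (k + 1) 1 * gvec (k + 1) 1 * gvec (k + 1) 1 + gvec (k + 1) 2 * gvec (k + 1) 2 * gvec (k + 1) 2 +
    gvec (k + 1) 3 * gvec (k + 1) 3 * gvec (k + 1) 3 + gvec (k + 1) 4 * gvec (k + 1) 4 * gvec (k + 1) 4 +
    gvec (k + 1) 5 * gvec (k + 1) 5 * gvec (k + 1) 5 = 0 ∧ enc (gvec (k + 1)) ≠ 0 := by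
  decide +kernel

/-- a transvection in coordinates -/
def tvv (v x : V6) : V6 :=
  x + (x 0 * (v 0 * v 0) + x 1 * (v 1 * v 1) + x 2 * (v 2 * v 2) + x 3 * (v 3 * v 3) + x 4 * (v 4 * v 4) +
    x 5 * (v 5 * v 5)) • v

theorem gfun_tv : ∀ k : Fin 8, ∀ j : Fin 693, gfun (k + 1) j = pid (tvv (gvec (k + 1)) (pt j)) := by
  decide +kernel

theorem gfun_zero : ∀ j : Fin 693, gfun 0 j = j := by decide +kernel

theorem seed_spec : seed < 693 ∧ pid (gvec 1) = seed := by decide +kernel

/-- the spanning tree is one -/
noncomputable def stepsOK : List ℕ → List (ℕ × ℕ × ℕ) → Bool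
  | known, [] => (List.range 693).all fun n => known.contains n
  | known, (new, g, old) :: l => Nat.blt g 9 && (Nat.blt 0 g && (Nat.blt old 693 &&
      (known.contains old && (Nat.beq (gfun g old) new && stepsOK (new :: known) l))))

theorem steps_check : stepsOK [seed] steps = true := by decide +kernel

/-- linked pairs of generators -/
def braidPairs : List (ℕ × ℕ) := [(1, 2), (2, 3), (3, 4), (4, 5), (2, 6), (6, 7), (7, 8)]

/-- a product of generators as a word -/
noncomputable def gword (w : List ℕ) : List ℕ := w.flatMap gw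

theorem braid_check : (braidPairs.all fun p =>
    (((gword [p.1, p.2, p.1]).all fun a => Nat.blt a fi22h.k) &&
      ((gword [p.2, p.1, p.2]).all fun a => Nat.blt a fi22h.k)) &&
      Nat.beq (fi22h.trace (gword [p.1, p.2, p.1])) (fi22h.trace (gword [p.2, p.1, p.2]))) = true := by
  decide +kernel

theorem odd_check : ((((gword oddWord).all fun a => Nat.blt a fi22h.k) &&
    Nat.beq (fi22h.trace (gword oddWord)) (fi22h.trace [])) && oddWord.all fun k => Nat.blt k 9) = true := by
  decide +kernel

theorem odd_parity : oddWord.length = 35 ∧ oddWord.count 0 = 5 := by decide +kernel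

theorem odd_check' : ((((gword oddWord').all fun a => Nat.blt a fi22h.k) &&
    Nat.beq (fi22h.trace (gword oddWord')) (fi22h.trace [])) && oddWord'.all fun k => Nat.blt k 9) = true := by
  decide +kernel

theorem odd_parity' : oddWord'.length = 63 ∧ oddWord'.count 0 = 0 := by decide +kernel

end Cfsg.Agent.Fi22U62
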