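import Cfsg.Agent.S1696
import Cfsg.Agent.Lib.Fi22U62.Tables

/-!
The centraliser of a transposition in Fi22 is a non-split double cover of `PSU₆(2)` (helper71).

* `rho`, `rho_injective`, `phi`, `range_eq`
* `isNonsplitDoubleCover`
-/

set_option autoImplicit false
set_option maxRecDepth 10000

namespace Cfsg.Agent.Fi22U62

open Cfsg.Agent.CosetEnum Cfsg.Agent.CosetEnum.Data
open Cfsg.Agent.Unitary (GF4)

/-- the permutation representation -/
noncomputable abbrev rho : fi22Setup.G →* Equiv.Perm (Fin fi22h.n) :=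
  Setup.hom S1687.table.gens S1687.table.letters S1687.table.perm S1687.table.rels

/-- the centraliser -/
abbrev Hs : Subgroup fi22Setup.G := fi22Setup.closureOf S1687.hgens

/-- `σ` describes the effect of `g` on the points -/
def IsBlock (g : fi22Setup.G) (σ : Equiv.Perm (Fin 693)) : Prop :=
  ∀ i : Fin fi22h.n, ∀ j : Fin 693, lab i = (j : ℕ) + 1 → lab (rho g i) = (σ j : ℕ) + 1

theorem IsBlock.one : IsBlock 1 1 := fun i j h => by simpa using h

theorem IsBlock.mul {g h : fi22Setup.G} {σ τ : Equiv.Perm (Fin 693)} (hg : IsBlock g σ) (hh : IsBlock h τ) :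
    IsBlock (g * h) (σ * τ) := fun i j e => by
  rw [map_mul, Equiv.Perm.mul_apply, Equiv.Perm.mul_apply]
  exact hg _ _ (hh i j e)

theorem IsBlock.unique {g : fi22Setup.G} {σ τ : Equiv.Perm (Fin 693)} (hg : IsBlock g σ) (hh : IsBlock g τ) :
    σ = τ := by
  refine Equiv.ext fun j => Fin.ext ?_
  obtain ⟨h1, h2⟩ := sec_spec j
  have e1 := hg ⟨sec j, h1⟩ j h2
  have e2 := hh ⟨sec j, h1⟩ j h2
  omega

theorem fi22_finite : Finite fi22Setup.G :=
  Nat.finite_of_card_ne_zero (by rw [S1696.main.2]; norm_num)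

theorem iso_gvec (k : Fin 8) : Iso (gvec (k + 1)) :=
  ⟨fun h => (gvec_spec k).2 (by rw [h]; rfl), by rw [herm_self]; exact (gvec_spec k).1⟩

/-- the permutation of a generator -/
noncomputable def gperm : ℕ → Equiv.Perm (Fin 693)
  | 0 => 1
  | k + 1 => if hk : k < 8 then pperm (tv _ (iso_gvec ⟨k, hk⟩)) else 1

theorem gperm_mem (k : ℕ) : gperm k ∈ pperm.range := by
  cases k with
  | zero => exact one_mem _
  | succ k =>
    by_cases hk : k < 8
    · rw [gperm, dif_pos hk]; exact ⟨_, rfl⟩
    · rw [gperm, dif_neg hk]; exact one_mem _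

theorem gperm_apply {k : ℕ} (hk : k < 9) (j : Fin 693) : (gperm k j : ℕ) = gfun k j := by
  cases k with
  | zero => exact (gfun_zero j).symm
  | succ k =>
    have hk' : k < 8 := by omega
    rw [gperm, dif_pos hk', pperm_apply, tv_apply]
    have h := gfun_tv ⟨k, hk'⟩ j
    rw [h]
    refine congrArg pid ?_
    rw [tvv]
    simp [Cfsg.hermForm, Fin.sum_univ_six, pow_two]

/-- the generators -/
noncomputable def hgen (k : ℕ) : fi22Setup.G := PresentedGroup.mk fi22Setup.rels (S1687.hgens.getD k 1)

theorem gw_spec {k : ℕ} (hk : k < 9) : gw k = fi22Setup.wl fi22h (S1687.hgens.getD k 1) ∧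
    (∀ a ∈ gw k, a < fi22h.k) ∧ ∀ i : Fin fi22h.n, lab i = 0 ∨
      lab (lane 13 (fi22h.trace (gw k)) i) = gfun k (lab i - 1) + 1 := by
  have h := List.all_eq_true.mp gen_check k (List.mem_range.mpr hk)
  simp only [genOK, force_eq, Bool.and_eq_true, List.all_eq_true, Nat.blt_eq] at h
  obtain ⟨hw, h2⟩ := h
  refine ⟨?_, hw, fun i => ?_⟩
  · unfold gw
    rw [List.getD_eq_getElem _ _ (by rw [List.length_map]; exact hk), List.getElem_map,
      List.getD_eq_getElem _ _ hk]
    rfl
  · have h3 := h2 (i : ℕ) (List.mem_range.mpr i.2)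
    simpa only [Bool.or_eq_true, beq_iff] using h3

theorem lane_trace {w : List ℕ} (hw : ∀ a ∈ w, a < fi22h.k) (i : Fin fi22h.n) :
    lane 13 (fi22h.trace w) i = fi22h.tw w i := by
  rw [Data.trace_eq S1687.table.perm _ hw]
  exact lane_pack S1687.table.perm.hB (fun x hx => self_lt_two_pow_of_lt
    (by have := S1687.table.perm.hlg; omega) (Data.tw_lt S1687.table.perm _ hw x hx))
    (lt_of_lt_of_le i.2 S1687.table.perm.hnN)

theorem rho_hgen {k : ℕ} (hk : k < 9) : rho (hgen k) = ev (Setup.perm fi22h S1687.table.perm) (gw k) := by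
  rw [hgen, Setup.hom_mk, (gw_spec hk).1]

theorem isBlock_hgen {k : ℕ} (hk : k < 9) : IsBlock (hgen k) (gperm k) := by
  intro i j e
  obtain ⟨-, hw, h3⟩ := gw_spec hk
  rcases h3 i with h | h
  · omega
  · rw [e, Nat.add_sub_cancel, lane_trace hw] at h
    rw [gperm_apply hk, rho_hgen hk, Setup.ev_perm _ _ hw]
    exact h

theorem hgen_mem {k : ℕ} (hk : k < 9) : hgen k ∈ Hs := by
  refine Subgroup.subset_closure ⟨_, ?_, rfl⟩
  show S1687.hgens.getD k 1 ∈ S1687.hgens
  rw [List.getD_eq_getElem _ _ hk]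
  exact List.getElem_mem _

theorem exists_block {g : fi22Setup.G} (hg : g ∈ Hs) : ∃ σ ∈ pperm.range, IsBlock g σ := by
  induction hg using Subgroup.closure_induction with
  | mem g hg =>
    obtain ⟨r, hr, rfl⟩ := hg
    obtain ⟨k, hk, rfl⟩ := List.mem_iff_getElem.mp hr
    refine ⟨gperm k, gperm_mem k, ?_⟩
    have := isBlock_hgen (k := k) hk
    rwa [hgen, List.getD_eq_getElem _ _ hk] at this
  | one => exact ⟨1, one_mem _, IsBlock.one⟩
  | mul x y _ _ hx hy => exact ⟨_, mul_mem hx.choose_spec.1 hy.choose_spec.1, hx.choose_spec.2.mul hy.choose_spec.2⟩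
  | inv x _ hx =>
    have := fi22_finite
    have hpow : ∀ m : ℕ, ∃ σ ∈ pperm.range, IsBlock (x ^ m) σ := by
      intro m
      induction m with
      | zero => exact ⟨1, one_mem _, by rw [pow_zero]; exact IsBlock.one⟩
      | succ m ih =>
        exact ⟨_, mul_mem ih.choose_spec.1 hx.choose_spec.1, by rw [pow_succ]; exact ih.choose_spec.2.mul hx.choose_spec.2⟩
    obtain ⟨m, hm⟩ : ∃ m : ℕ, x⁻¹ = x ^ m := ⟨orderOf x - 1, by
      rw [inv_eq_iff_mul_eq_one, ← pow_succ', Nat.sub_add_cancel (orderOf_pos x), pow_orderOf_eq_one]⟩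
    rw [hm]
    exact hpow m

/-- the action of the centraliser on the points -/
noncomputable def phi : Hs →* Equiv.Perm (Fin 693) where
  toFun g := (exists_block g.2).choose
  map_one' := (exists_block (1 : Hs).2).choose_spec.2.unique IsBlock.one
  map_mul' g h := (exists_block (g * h).2).choose_spec.2.unique
    ((exists_block g.2).choose_spec.2.mul (exists_block h.2).choose_spec.2)

theorem phi_gen {k : ℕ} (hk : k < 9) : phi ⟨_, hgen_mem hk⟩ = gperm k :=
  (exists_block (hgen_mem hk)).choose_spec.2.unique (isBlock_hgen hk)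

theorem inR_of_steps (R : Subgroup (Equiv.Perm (Fin 693))) (hR : ∀ k < 9, gperm k ∈ R) :
    ∀ (l : List (ℕ × ℕ × ℕ)) (known : List ℕ),
      (∀ n ∈ known, ∀ hn : n < 693, pperm (tv _ (iso_pt ⟨n, hn⟩)) ∈ R) →
      stepsOK known l = true → ∀ j : Fin 693, pperm (tv _ (iso_pt j)) ∈ R
  | [], known, hk, h, j => by
    simp only [stepsOK, List.all_eq_true, List.contains_iff_mem, List.mem_range] at h
    exact hk j (h j j.2) j.2
  | (new, g, old) :: l, known, hk, h, j => by
    simp only [stepsOK, Bool.and_eq_true, Nat.blt_eq, List.contains_iff_mem, beq_iff] at h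
    obtain ⟨hg, hg0, ho, hkn, hnew, hrec⟩ := h
    refine inR_of_steps R hR l (new :: known) ?_ hrec j
    intro m hm hm'
    rcases List.mem_cons.mp hm with rfl | hm
    · obtain ⟨g, rfl⟩ : ∃ g', g = g' + 1 := ⟨g - 1, by omega⟩
      have hg' : g < 8 := by omega
      have e1 : gperm (g + 1) = pperm (tv _ (iso_pt ⟨pid (gvec (g + 1)), (iso_gvec ⟨g, hg'⟩).exists_smul.1⟩)) := by
        rw [gperm, dif_pos hg', tv_pid (iso_gvec ⟨g, hg'⟩)]
      have e2 : (⟨m, hm'⟩ : Fin 693) = gperm (g + 1) ⟨old, ho⟩ :=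
        Fin.ext (by rw [gperm_apply hg]; exact hnew.symm)
      rw [e2, e1, pperm_tv_conj, ← e1]
      exact mul_mem (mul_mem (hR _ hg) (hk _ hkn ho)) (inv_mem (hR _ hg))
    · exact hk m hm hm'

theorem range_eq : phi.range = pperm.range := by
  refine le_antisymm ?_ (range_le _ ?_)
  · rintro _ ⟨g, rfl⟩
    exact (exists_block g.2).choose_spec.1
  · have hR : ∀ k < 9, gperm k ∈ phi.range := fun k hk => ⟨_, phi_gen hk⟩
    refine inR_of_steps _ hR steps [seed] ?_ steps_check
    intro n hn hn'
    have e : gperm 1 = pperm (tv _ (iso_pt ⟨pid (gvec 1), (iso_gvec 0).exists_smul.1⟩)) := by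
      rw [gperm, dif_pos (by norm_num : 0 < 8)]
      exact congrArg pperm (tv_pid (iso_gvec 0))
    have hn2 : (⟨n, hn'⟩ : Fin 693) = ⟨pid (gvec 1), (iso_gvec 0).exists_smul.1⟩ :=
      Fin.ext ((List.mem_singleton.mp hn).trans seed_spec.2.symm)
    rw [hn2, ← e]
    exact hR 1 (by norm_num)

theorem card_pperm_range : Nat.card pperm.range = 9196830720 := by
  have h := Unitary.card_PSU (n := 6) hF (by norm_num)
  rw [← Nat.card_congr psuEquivRange.toEquiv]
  simp [Finset.prod_range_succ, show Nat.gcd 6 3 = 3 from rfl, Nat.even_add_one] at h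
  omega

theorem card_Hs : Nat.card Hs = 2 * 9196830720 := by
  have h := Hs.index_mul_card
  rw [Setup.Table.index S1687.table, S1696.main.2, show fi22h.n = 3510 from rfl] at h
  omega

theorem card_ker : Nat.card phi.ker = 2 := by
  have h := phi.ker.index_mul_card
  rw [Subgroup.index_ker, range_eq, card_pperm_range, card_Hs] at h
  omega

theorem center_range : Subgroup.center pperm.range = ⊥ := by
  have := Unitary.isSimpleGroup_PSU (n := 6) hF (Or.inl (by norm_num))
  have : IsSimpleGroup pperm.range := psuEquivRange.isSimpleGroup_congr.mp this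
  refine (Subgroup.center pperm.range).normal_of_characteristic.eq_bot_or_eq_top.resolve_right fun htop => ?_
  have hcomm : gperm 1 * gperm 2 = gperm 2 * gperm 1 := by
    have := Subgroup.mem_center_iff.mp (htop ▸ Subgroup.mem_top (⟨_, gperm_mem 2⟩ : pperm.range)) ⟨_, gperm_mem 1⟩
    exact congrArg Subtype.val this
  have h2 := congrArg (fun π : Equiv.Perm (Fin 693) => ((π ⟨seed, seed_spec.1⟩ : Fin 693) : ℕ)) hcomm
  simp only [Equiv.Perm.mul_apply, gperm_apply (by norm_num : (1 : ℕ) < 9), gperm_apply (by norm_num : (2 : ℕ) < 9)] at h2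
  revert h2
  decide +kernel

theorem center_eq_ker : Subgroup.center Hs = phi.ker := by
  apply le_antisymm
  · intro z hz
    have hz' : (⟨phi z, range_eq ▸ ⟨z, rfl⟩⟩ : pperm.range) ∈ Subgroup.center pperm.range := by
      rw [Subgroup.mem_center_iff]
      rintro ⟨x, hx⟩
      rw [← range_eq] at hx
      obtain ⟨y, rfl⟩ := hx
      apply Subtype.ext
      show phi y * phi z = phi z * phi y
      rw [← map_mul, Subgroup.mem_center_iff.mp hz y, map_mul]
    rw [center_range, Subgroup.mem_bot] at hz'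
    exact congrArg Subtype.val hz'
  · intro z hz
    rw [Subgroup.mem_center_iff]
    intro g
    have : Finite phi.ker := Nat.finite_of_card_ne_zero (by rw [card_ker]; norm_num)
    by_cases h1 : z = 1
    · rw [h1, mul_one, one_mul]
    have hmem : g * z * g⁻¹ ∈ phi.ker := phi.normal_ker.conj_mem z hz g
    obtain ⟨x, y, hxy, hu⟩ := Nat.card_eq_two_iff.mp card_ker
    have key : ∀ a : phi.ker, a = 1 ∨ a = ⟨z, hz⟩ := by
      intro a
      have hne : (⟨z, hz⟩ : phi.ker) ≠ 1 := fun h => h1 (congrArg Subtype.val h)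
      have m : ∀ b : phi.ker, b = x ∨ b = y := fun b => by
        have : b ∈ ({x, y} : Set phi.ker) := hu.symm ▸ Set.mem_univ b
        simpa using this
      rcases m 1 with h | h <;> rcases m ⟨z, hz⟩ with h' | h' <;> rcases m a with ha | ha <;> simp_all
    rcases key ⟨_, hmem⟩ with h | h
    · exact absurd (conj_eq_one_iff.mp (congrArg Subtype.val h)) h1
    · calc g * z = g * z * g⁻¹ * g := by group
        _ = z * g := by rw [show g * z * g⁻¹ = z from congrArg Subtype.val h]

theorem rho_injective : Function.Injective rho := by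
  have := S1696.main.1
  rw [← MonoidHom.ker_eq_bot_iff]
  refine rho.normal_ker.eq_bot_or_eq_top.resolve_right fun h => ?_
  have h2 : rho (hgen 1) = 1 := MonoidHom.mem_ker.mp (h ▸ Subgroup.mem_top _)
  have e := isBlock_hgen (k := 1) (by norm_num)
  have e' : IsBlock (hgen 1) 1 := fun i j hij => by rw [h2]; exact hij
  have hj := congrArg (fun π : Equiv.Perm (Fin 693) => ((π (gperm 2 ⟨seed, seed_spec.1⟩) : Fin 693) : ℕ)) (e.unique e')
  simp only [Equiv.Perm.one_apply, gperm_apply (by norm_num : (1 : ℕ) < 9), gperm_apply (by norm_num : (2 : ℕ) < 9)] at hj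
  revert hj
  decide +kernel

/-- evaluation of a product of generators -/
theorem rho_gword : ∀ w : List ℕ, (∀ k ∈ w, k < 9) →
    ev (Setup.perm fi22h S1687.table.perm) (gword w) = rho (ev hgen w)
  | [], _ => by simp [gword, ev]
  | k :: v, h => by
    show ev _ (gw k ++ gword v) = rho (ev hgen v * hgen k)
    rw [ev_append, rho_gword v (fun b hb => h b (List.mem_cons_of_mem k hb)), map_mul,
      rho_hgen (h k List.mem_cons_self)]

theorem eq_of_trace {u v : List ℕ} (hu : ∀ a ∈ u, a < fi22h.k) (hv : ∀ a ∈ v, a < fi22h.k)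
    (h : fi22h.trace u = fi22h.trace v) :
    ev (Setup.perm fi22h S1687.table.perm) u = ev (Setup.perm fi22h S1687.table.perm) v := by
  refine Equiv.ext fun i => Fin.ext ?_
  rw [Setup.ev_perm _ _ hu, Setup.ev_perm _ _ hv, ← lane_trace hu, ← lane_trace hv, h]

/-- the generators as elements of the centraliser -/
noncomputable def hel (k : ℕ) : Hs := if hk : k < 9 then ⟨_, hgen_mem hk⟩ else 1

theorem val_ev_hel : ∀ w : List ℕ, (∀ k ∈ w, k < 9) → ((ev hel w : Hs) : fi22Setup.G) = ev hgen w
  | [], _ => rfl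
  | k :: v, h => by
    show ((ev hel v : Hs) : fi22Setup.G) * (hel k : fi22Setup.G) = ev hgen v * hgen k
    rw [val_ev_hel v (fun b hb => h b (List.mem_cons_of_mem k hb)), hel, dif_pos (h k List.mem_cons_self)]

theorem hom_eq_one (χ : Hs →* Multiplicative (ZMod 2)) : χ = 1 := by
  have hsq : ∀ a : Multiplicative (ZMod 2), a * a = 1 := by decide
  have hbr : ∀ a b : Multiplicative (ZMod 2), a * b * a = b * a * b → a = b := by decide
  have inj := rho_injective
  have braid : ∀ p ∈ braidPairs, χ (hel p.1) = χ (hel p.2) := by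
    intro p hp
    have h := List.all_eq_true.mp braid_check p hp
    simp only [Bool.and_eq_true, List.all_eq_true, Nat.blt_eq, beq_iff] at h
    have hlt : p.1 < 9 ∧ p.2 < 9 := by revert p; decide
    obtain ⟨a, b⟩ := p
    have hw1 : ∀ k ∈ [a, b, a], k < 9 := by simp [hlt.1, hlt.2]
    have hw2 : ∀ k ∈ [b, a, b], k < 9 := by simp [hlt.1, hlt.2]
    have e := eq_of_trace h.1.1 h.1.2 h.2
    rw [rho_gword _ hw1, rho_gword _ hw2] at e
    have e2 : ev hel [a, b, a] = ev hel [b, a, b] := Subtype.ext (by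
      rw [val_ev_hel _ hw1, val_ev_hel _ hw2]; exact inj e)
    simp only [ev, one_mul] at e2
    have e3 := congrArg χ e2
    simp only [map_mul] at e3
    exact hbr _ _ e3
  simp only [braidPairs, List.forall_mem_cons, List.not_mem_nil, IsEmpty.forall_iff, implies_true, and_true] at braid
  obtain ⟨b12, b23, b34, b45, b26, b67, b78⟩ := braid
  have hall : ∀ k < 9, k ≠ 0 → χ (hel k) = χ (hel 1) := by
    intro k hk hk0
    interval_cases k <;> simp_all
  have ho := odd_check
  simp only [Bool.and_eq_true, List.all_eq_true, Nat.blt_eq, beq_iff] at ho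
  have hrel : ev hel oddWord = 1 := Subtype.ext (by
    rw [val_ev_hel _ ho.2]
    apply inj
    rw [← rho_gword _ ho.2, eq_of_trace ho.1.1 (by simp) ho.1.2]
    simp [ev])
  have hχ : ∀ w : List ℕ, (∀ k ∈ w, k < 9) →
      χ (ev hel w) = χ (hel 0) ^ w.count 0 * χ (hel 1) ^ (w.length - w.count 0) := by
    intro w
    induction w with
    | nil => intro _; simp [ev]
    | cons k v ih =>
      intro hw
      show χ (ev hel v * hel k) = _
      rw [map_mul, ih (fun b hb => hw b (List.mem_cons_of_mem k hb))]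
      have hc := List.count_le_length (a := 0) (l := v)
      by_cases hk0 : k = 0
      · subst hk0
        rw [List.count_cons_self, List.length_cons, Nat.add_sub_add_right, pow_succ]
        ac_rfl
      · rw [hall k (hw k List.mem_cons_self) hk0, List.count_cons_of_ne hk0, List.length_cons,
          show v.length + 1 - v.count 0 = v.length - v.count 0 + 1 by omega, pow_succ, mul_assoc]
  have h0 : χ (hel 0) = 1 := by
    have := hχ oddWord ho.2
    rw [hrel, map_one, odd_parity.1, odd_parity.2] at this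
    revert this
    generalize χ (hel 0) = a
    generalize χ (hel 1) = b
    revert a b
    decide
  have ho' := odd_check'
  simp only [Bool.and_eq_true, List.all_eq_true, Nat.blt_eq, beq_iff] at ho'
  have hrel' : ev hel oddWord' = 1 := Subtype.ext (by
    rw [val_ev_hel _ ho'.2]
    apply inj
    rw [← rho_gword _ ho'.2, eq_of_trace ho'.1.1 (by simp) ho'.1.2]
    simp [ev])
  have h1 : χ (hel 1) = 1 := by
    have := hχ oddWord' ho'.2
    rw [hrel', map_one, odd_parity'.1, odd_parity'.2] at this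
    revert this
    generalize χ (hel 0) = a
    generalize χ (hel 1) = b
    revert a b
    decide
  refine MonoidHom.ext fun x => ?_
  obtain ⟨g, hg⟩ := x
  show χ ⟨g, hg⟩ = 1
  induction hg using Subgroup.closure_induction with
  | mem g hg =>
    obtain ⟨r, hr, rfl⟩ := hg
    obtain ⟨k, hk, rfl⟩ := List.mem_iff_getElem.mp hr
    have e : (⟨_, Subgroup.subset_closure ⟨_, hr, rfl⟩⟩ : Hs) = hel k := by
      apply Subtype.ext
      rw [hel, dif_pos (show k < 9 from hk)]
      show _ = hgen k
      rw [hgen, List.getD_eq_getElem _ _ hk]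
    refine (congrArg χ e).trans ?_
    by_cases hk0 : k = 0
    · exact (congrArg (fun k => χ (hel k)) hk0).trans h0
    · exact (hall k hk hk0).trans h1
  | one => exact map_one χ
  | mul x y hx hy ihx ihy =>
    exact (map_mul χ ⟨x, hx⟩ ⟨y, hy⟩).trans (by rw [ihx, ihy, one_mul])
  | inv x hx ihx =>
    exact (map_inv χ ⟨x, hx⟩).trans (by rw [ihx, inv_one])

/-- the centraliser is a non-split double cover -/
theorem isNonsplitDoubleCover : Cfsg.IsNonsplitDoubleCover Hs (Cfsg.PSU 6 GF4 2) := by
  refine ⟨by rw [center_eq_ker]; exact card_ker, ⟨?_⟩, fun L hL => ?_⟩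
  · exact ((QuotientGroup.quotientMulEquivOfEq center_eq_ker).trans
      (QuotientGroup.quotientKerEquivRange phi)).trans
      ((MulEquiv.subgroupCongr range_eq).trans psuEquivRange.symm)
  · have hidx : L.index = 2 := by
      rw [hL.index_eq_card, center_eq_ker, card_ker]
    have := Subgroup.normal_of_index_eq_two hidx
    have : Fact (Nat.Prime 2) := ⟨Nat.prime_two⟩
    have hc : Nat.card (Hs ⧸ L) = 2 := hidx
    let E : Hs ⧸ L ≃* Multiplicative (ZMod 2) := mulEquivOfPrimeCardEq hc (by simp)
    have h1 := hom_eq_one (E.toMonoidHom.comp (QuotientGroup.mk' L))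
    have : Subsingleton (Hs ⧸ L) := ⟨fun a b => E.injective (by
      obtain ⟨a, rfl⟩ := QuotientGroup.mk'_surjective L a
      obtain ⟨b, rfl⟩ := QuotientGroup.mk'_surjective L b
      have ha := DFunLike.congr_fun h1 a
      have hb := DFunLike.congr_fun h1 b
      exact ha.trans hb.symm)⟩
    rw [Nat.card_of_subsingleton (1 : Hs ⧸ L)] at hc
    omega

end Cfsg.Agent.Fi22U62
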